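import Groth.Agent.JacVar.K532.CurvePic
import Groth.Agent.JacVar.K533.CurveBasic
import Groth.Agent.Variety.K425.GenEtale
import Groth.Agent.AbVar.K516.PushRank
import Groth.Agent.Lefpen.H723.P1Flat
import Groth.Agent.CycB.FiniteFlat
import Groth.Agent.CalgB.ProjField
import Groth.Agent.S1551
import Groth.Agent.Curves.K316.P1Map
import Groth.Agent.Grpsch.FinrankGen

/-!
# Double covers of the projective line from a separable pencil of degree two
-/

set_option autoImplicit false
universe u
open CategoryTheory CategoryTheory.Limits AlgebraicGeometry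

namespace K449.GenusTwo

open Groth.Agent

section field

variable {X Y : Scheme.{u}} [IsIntegral X] [IsIntegral Y] (f : X ⟶ Y)

theorem bijective_residue_generic : Function.Bijective (IsLocalRing.residue (X.presheaf.stalk (genericPoint X))) := by
  refine ⟨?_, IsLocalRing.residue_surjective⟩
  have : Nontrivial (IsLocalRing.ResidueField (X.presheaf.stalk (genericPoint X))) := inferInstance
  exact RingHom.injective (R := X.functionField) (IsLocalRing.residue (X.presheaf.stalk (genericPoint X)))

/-- The residue field extension at the generic point is the extension of function fields. -/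
theorem isSeparable_ff (e : f (genericPoint X) = genericPoint Y)
    (h : letI := (f.residueFieldMap (genericPoint X)).hom.toAlgebra
      Algebra.IsSeparable (Y.residueField (f (genericPoint X))) (X.residueField (genericPoint X))) :
    @Algebra.IsSeparable Y.functionField X.functionField _ _ (K425.GenEtale.ffMap f e).toAlgebra := by
  let a : Y.functionField →+* Y.residueField (f (genericPoint X)) :=
    (Y.presheaf.stalkSpecializes (specializes_of_eq e) ≫ Y.residue (f (genericPoint X))).hom
  let b : X.functionField →+* X.residueField (genericPoint X) := (X.residue (genericPoint X)).hom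
  have hb : Function.Bijective b := bijective_residue_generic
  have ha : Function.Bijective a := by
    refine ⟨RingHom.injective a, ?_⟩
    have h1 : IsIso (Y.presheaf.stalkSpecializes (specializes_of_eq e)) := by
      have : Y.presheaf.stalkSpecializes (specializes_of_eq e) = (Y.presheaf.stalkCongr (Inseparable.of_eq e)).inv := rfl
      rw [this]
      infer_instance
    intro z
    obtain ⟨w, rfl⟩ := IsLocalRing.residue_surjective z
    refine ⟨inv (Y.presheaf.stalkSpecializes (specializes_of_eq e)) w, ?_⟩
    change (inv (Y.presheaf.stalkSpecializes (specializes_of_eq e)) ≫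
      Y.presheaf.stalkSpecializes (specializes_of_eq e) ≫ Y.residue (f (genericPoint X))) w = _
    rw [IsIso.inv_hom_id_assoc]
    rfl
  letI := (f.residueFieldMap (genericPoint X)).hom.toAlgebra
  letI := (K425.GenEtale.ffMap f e).toAlgebra
  have h' : Algebra.IsSeparable (Y.residueField (f (genericPoint X))) (X.residueField (genericPoint X)) := h
  refine Algebra.IsSeparable.of_equiv_equiv (RingEquiv.ofBijective a ha).symm (RingEquiv.ofBijective b hb).symm ?_
  ext z
  obtain ⟨w, rfl⟩ := ha.2 z
  apply hb.1
  have h1 : (RingEquiv.ofBijective a ha).symm (a w) = w := (RingEquiv.ofBijective a ha).symm_apply_apply w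
  have h2 : b ((RingEquiv.ofBijective b hb).symm ((f.residueFieldMap (genericPoint X)).hom (a w))) =
      (f.residueFieldMap (genericPoint X)).hom (a w) := (RingEquiv.ofBijective b hb).apply_symm_apply _
  change b ((K425.GenEtale.ffMap f e) ((RingEquiv.ofBijective a ha).symm (a w))) = b ((RingEquiv.ofBijective b hb).symm
    ((f.residueFieldMap (genericPoint X)).hom (a w)))
  rw [h1, h2]
  change ((Y.presheaf.stalkSpecializes (specializes_of_eq e) ≫ f.stalkMap (genericPoint X)) ≫ X.residue (genericPoint X)) w =
    ((Y.presheaf.stalkSpecializes (specializes_of_eq e) ≫ Y.residue (f (genericPoint X))) ≫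
      f.residueFieldMap (genericPoint X)) w
  rw [Category.assoc, Category.assoc, Scheme.residue_residueFieldMap]

/-- The degree at the generic point is the residue degree. -/
theorem finrank_stalk_eq (e : f (genericPoint X) = genericPoint Y) :
    letI := (f.stalkMap (genericPoint X)).hom.toAlgebra
    Module.finrank (Y.presheaf.stalk (f (genericPoint X))) (X.presheaf.stalk (genericPoint X)) =
      f.residueDegree (genericPoint X) := by
  let a : Y.presheaf.stalk (f (genericPoint X)) →+* Y.residueField (f (genericPoint X)) :=
    (Y.residue (f (genericPoint X))).hom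
  let b : X.presheaf.stalk (genericPoint X) →+* X.residueField (genericPoint X) := (X.residue (genericPoint X)).hom
  have hb : Function.Bijective b := bijective_residue_generic
  have ha : Function.Bijective a := by
    have : ∀ y : Y, y = genericPoint Y → Function.Bijective (Y.residue y).hom := by
      rintro _ rfl
      exact bijective_residue_generic
    exact this _ e
  letI := (f.residueFieldMap (genericPoint X)).hom.toAlgebra
  letI := (f.stalkMap (genericPoint X)).hom.toAlgebra
  refine (Algebra.finrank_eq_of_equiv_equiv (RingEquiv.ofBijective a ha) (RingEquiv.ofBijective b hb) ?_)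
  ext z
  exact congr($(Scheme.residue_residueFieldMap f (genericPoint X)) z)

end field

section curve

variable (k : Type u) [Field k] (X : Scheme.{u}) [X.Over (Spec (CommRingCat.of k))]
    [IsIntegral X] [IsProper (X ↘ (Spec (CommRingCat.of k)))]

theorem finish (hdim : topologicalKrullDim X = 1) (f : X ⟶ CohB1.ProjSpace 1 k)
    (hf : f ≫ CohB1.ProjSpace.toSpec 1 k = X ↘ (Spec (CommRingCat.of k))) [IsFinite f]
    (hdeg : f.residueDegree (genericPoint X) = 2)
    (hsep : letI := (f.residueFieldMap (genericPoint X)).hom.toAlgebra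
      Algebra.IsSeparable ((CohB1.ProjSpace 1 k).residueField (f (genericPoint X))) (X.residueField (genericPoint X))) :
    Flat f ∧ (∀ y : ↥(CohB1.ProjSpace 1 k), Scheme.Hom.finrank f y = 2) ∧
      ∃ V : X.Opens, (V : Set X).Nonempty ∧ Etale (V.ι ≫ f) := by
  haveI : IsLocallyNoetherian X :=
    LocallyOfFiniteType.isLocallyNoetherian (X ↘ (Spec (CommRingCat.of k)))
  have hne : ∀ j, f ⁻¹ᵁ Curves.K316.P1Map.V k j ≠ ⊤ := by
    intro j hj
    obtain ⟨p, -, hp⟩ := Curves.K316.P1Map.const_case k X f hf j hj
    have h1 : _root_.IsDiscrete (f ⁻¹' {p}) := f.isDiscrete_preimage_singleton p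
    have h2 : f ⁻¹' {p} = Set.univ := by
      rw [Set.eq_univ_iff_forall]
      exact fun x => hp ⟨x, rfl⟩
    rw [h2] at h1
    have h3 : DiscreteTopology X := by
      have := h1.to_subtype
      exact (Homeomorph.Set.univ X).symm.isEmbedding.discreteTopology
    have h4 : Subsingleton X := by
      refine ⟨fun x y => ?_⟩
      by_contra hxy
      obtain ⟨z, hz1, hz2⟩ := (PreirreducibleSpace.isPreirreducible_univ (X := X)) {x} {y} (isOpen_discrete _)
        (isOpen_discrete _) ⟨x, trivial, rfl⟩ ⟨y, trivial, rfl⟩
      exact hxy (hz2.1.symm.trans hz2.2)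
    have h5 : topologicalKrullDim X ≤ 0 := topologicalKrullDim_zero_of_discreteTopology X
    rw [hdim] at h5
    exact absurd h5 (by decide)
  obtain ⟨-, hgen, -⟩ := Curves.K316.P1Map.nonconst_case k X hdim f hf hne
  haveI : Flat f := by
    refine Lefpen.H723.P1Flat.flat_of_genericPoint k f ?_
    intro z hz
    rw [hgen] at hz ⊢
    exact (hz.antisymm (genericPoint_specializes z)).eq
  refine ⟨inferInstance, fun y => ?_, ?_⟩
  · rw [Grpsch.FinrankGen.finrank_eq_stalk f hgen y, finrank_stalk_eq f hgen, hdeg]
  · exact K425.GenEtale.exists_etale_of_isSeparable f hgen (isSeparable_ff f hgen hsep)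

/-- The canonical pencil of a curve of genus two, given the correspondence between separable double covers of the
projective line and pencils of degree two. -/
theorem of_pencil (k : Type u) [Field k] {C : Scheme.{u}}
    (p : C ⟶ Spec (CommRingCat.of k)) [IsProper p] [Smooth p] [GeometricallyConnected p] (hC : topologicalKrullDim C = 1)
    (hg : @Curv2.genus k _ C ⟨p⟩ = 2)
    (H : ∀ (X : Scheme.{u}) [X.Over (Spec (CommRingCat.of k))]
      (_ : ∃ (N : ℕ) (i : X ⟶ CohB1.ProjSpace N k), IsClosedImmersion i ∧
        i ≫ CohB1.ProjSpace.toSpec N k = X ↘ (Spec (CommRingCat.of k)))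
      [IsIntegral X] (_ : topologicalKrullDim X = 1) [Smooth (X ↘ (Spec (CommRingCat.of k)))]
      (_ : Module.finrank k (Coh.HH X (Coh.structureModule X) 0) = 1) (_ : 1 ≤ Curv2.genus k X)
      (_ : ∃ L : X.Modules, PicF.IsInvertible L ∧ Curv2.deg k X L 1 = 2 ∧ Module.finrank k (Coh.HH X L 0) = 2),
      (∃ f : X ⟶ CohB1.ProjSpace 1 k, f ≫ CohB1.ProjSpace.toSpec 1 k = X ↘ (Spec (CommRingCat.of k)) ∧ IsFinite f ∧
        f.residueDegree (genericPoint X) = 2 ∧
        letI := (f.residueFieldMap (genericPoint X)).hom.toAlgebra
        Algebra.IsSeparable ((CohB1.ProjSpace 1 k).residueField (f (genericPoint X)))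
          (X.residueField (genericPoint X)))) :
    ∃ f : C ⟶ CohB1.ProjSpace 1 k, f ≫ CohB1.ProjSpace.toSpec 1 k = p ∧ IsFinite f ∧ Flat f ∧
      (∀ y : ↥(CohB1.ProjSpace 1 k), Scheme.Hom.finrank f y = 2) ∧
      ∃ V : C.Opens, (V : Set C).Nonempty ∧ Etale (V.ι ≫ f) := by
  letI : C.Over (Spec (CommRingCat.of k)) := ⟨p⟩
  haveI : IsIntegral C := K533.CurveBasic.isIntegral p
  haveI : IsProper (C ↘ (Spec (CommRingCat.of k))) := ‹IsProper p›
  haveI : Smooth (C ↘ (Spec (CommRingCat.of k))) := ‹Smooth p›
  haveI : GeometricallyConnected (C ↘ (Spec (CommRingCat.of k))) := ‹GeometricallyConnected p›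
  have h0 := K533.CurveBasic.h0_one k C
  have hX : K532.CurvePic.IsCurve k C := ⟨K533.CurveBasic.isSmoothProperCurve p hC, h0⟩
  have hN : IsNoetherian C := hX.noeth
  have hs : C.IsSeparated := by
    rw [Scheme.isSeparated_iff, ← terminal.comp_from p]
    infer_instance
  have hg' : K532.CurvePic.gen k C = 2 := hg
  have hproj := CalgB.ProjField.exists_closedImmersion_projSpace (C ↘ (Spec (CommRingCat.of k)))
    (S1551.result C hC)
  obtain ⟨f, hf, hfin, hdeg, hsep⟩ := H C hproj hC h0 (by rw [hg]; decide)
    ⟨Omega.sheaf (C ↘ (Spec (CommRingCat.of k))), K532.CurvePic.isInvertible_omega hX, by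
      rw [← K532.CurvePic.deg_mk k C hC (K532.CurvePic.isInvertible_omega hX)]
      have := K532.CurvePic.deg_om hX
      rw [K532.CurvePic.om, hg'] at this
      rw [this]
      norm_num, by
      have := K532.CurvePic.h0_om hX
      rw [K532.CurvePic.om, hg'] at this
      exact this⟩
  obtain ⟨h1, h2, h3⟩ := finish k C hC f hf hdeg hsep
  exact ⟨f, hf, hfin, h1, h2, h3⟩

end curve

end K449.GenusTwo
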